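import Groth.Agent.Lib.CurveHiggs
import Groth.Agent.Lib.CurveSSVanish
import Groth.Agent.H23.PicInv

/-!
Auxiliary facts for pairs `E ⟶ E ⊗ L` on curves: twisting by degree zero, torsion subsheaves.
-/

set_option linter.style.haveILetI false
set_option linter.unusedSectionVars false
set_option backward.isDefEq.respectTransparency false
set_option backward.isDefEq.respectTransparency.types false

universe u

open CategoryTheory CategoryTheory.Limits AlgebraicGeometry TopologicalSpace Opposite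

namespace Groth.Agent.CurvePairs

open Groth.Agent.CurveBundle Groth.Agent.CurveSlope Groth.Agent.CurveStable

variable {X : Scheme.{u}} [IsIntegral X]

theorem rk_tensor (E F : X.Modules) : rk ((DCoh.tensorBi.obj E).obj F) = rk E * rk F := by
  letI := (CurveBundle.isField_stalk_generic (X := X)).toField
  have e := (KFlatLib.stalkTensorIso (genericPoint X) E F).toLinearEquiv
  refine e.finrank_eq.symm.trans ?_
  exact Module.finrank_tensorProduct (R := X.presheaf.stalk (genericPoint X))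

variable (k : Type u) [Field k] [X.Over (Spec (CommRingCat.of k))]
  [IsProper (X ↘ Spec (CommRingCat.of k))] [Smooth (X ↘ Spec (CommRingCat.of k))]

theorem dg_nonneg_of_rk_zero (hdim : topologicalKrullDim X ≤ 1) {M : X.Modules} (hM : Coh.IsCoh M)
    (h0 : rk M = 0) : 0 ≤ dg k M ∧ (dg k M ≤ 0 → IsZero M) := by
  haveI := isLocallyNoetherian' k (X := X)
  obtain ⟨h3, h4⟩ := Euler.euler_nonneg_of_good k hM (Euler.good_of_dim_le_zero k hM
    (CurveDeg.topologicalKrullDim_le_zero_of_ne_univ hdim (QCoh.isClosed_support_of_isFT hM.1 hM.2)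
      (support_ne_univ_of_rk hM h0)))
  have h5 : dg k M = Curv2.euler k X M := by
    unfold dg
    rw [h0]
    simp
  exact ⟨by omega, fun h => h4 (by omega)⟩

/-- A subsheaf of a degree zero twist is the twist of a subsheaf with the same rank and degree. -/
theorem exists_untwist (hdim : topologicalKrullDim X = 1) {L : X.Modules} (hL : PicF.IsInvertible L)
    (hL0 : Curv2.deg k X L 1 = 0) {Q G : X.Modules} (g : G ⟶ (DCoh.tensorBi.obj Q).obj L) [Mono g]
    (hG : Coh.IsCoh G) :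
    ∃ (G' : X.Modules) (g' : G' ⟶ Q), Mono g' ∧ Coh.IsCoh G' ∧ rk G' = rk G ∧ dg k G' = dg k G := by
  haveI := isLocallyNoetherian' k (X := X)
  obtain ⟨D, hD, ⟨e0⟩⟩ := H23.PicInv.exists_inverse hL
  have e : (DCoh.tensorBi.obj L).obj D ≅ Coh.structureModule X := e0
  have hD1 := InvEnd.isFinLocFreeOfRank_one hD
  have hL1 := InvEnd.isFinLocFreeOfRank_one hL
  have hdD : Curv2.deg k X D 1 = 0 := by
    have h := CurveRR.deg_tensor k hdim hL hD
    rw [CurveRR.deg_congr k e, CurveDeg.deg_structureModule] at h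
    omega
  let T := DCoh.tensorBi.flip.obj L
  haveI : T.IsEquivalence :=
    haveI : (DCoh.tensorBi.obj L).IsEquivalence :=
      (CurveHiggs.twistEquiv e).isEquivalence_functor
    Functor.isEquivalence_of_iso (CurveHiggs.flipIso L).symm
  let G' := T.objPreimage G
  let η : T.obj G' ≅ G := T.objObjPreimageIso G
  let g' : G' ⟶ Q := T.preimage (η.hom ≫ g)
  haveI : Mono g' := T.mono_of_mono_map (by rw [show T.map g' = η.hom ≫ g from T.map_preimage _]; infer_instance)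
  have e1 : (DCoh.tensorBi.obj L).obj G' ≅ G := ((CurveHiggs.flipIso L).app G').symm ≪≫ η
  have e2 : (DCoh.tensorBi.obj D).obj G ≅ G' :=
    (DCoh.tensorBi.obj D).mapIso e1.symm ≪≫ ((CurveHiggs.twistEquiv e).unitIso.app G').symm
  have hG'q : Coh.IsQCoh G' := (QCoh.isQCoh_iff_iso e2).1
    (CurveTensor.isCoh_tensor (isFinLocFree_of_rank hD1) hG).1
  have hG' : Coh.IsCoh G' :=
    ⟨hG'q, (QCoh.isCoh_of_epi e2.hom (CurveTensor.isCoh_tensor (isFinLocFree_of_rank hD1) hG) hG'q).2⟩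
  have hr : rk G' = rk G := by
    have h := rk_tensor L G'
    rw [rk_congr e1, rk_eq hL1, one_mul] at h
    exact h.symm
  have h1 := CurveTensor.euler_tensor k hdim hL1 hG'
  rw [Euler.euler_congr k e1, hL0] at h1
  refine ⟨G', g', inferInstance, hG', hr, ?_⟩
  unfold dg
  rw [hr]
  push_cast at h1
  linarith


/-- The maximal slope subbundle in a family of subbundles. -/
theorem exists_max_slope_of (hdim : topologicalKrullDim X ≤ 1) {E : X.Modules} {r : ℕ} (hr : 0 < r)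
    (hE : FlatMod.IsFinLocFreeOfRank r E) (Inv : ∀ F : X.Modules, (F ⟶ E) → Prop) (hInv : Inv E (𝟙 E)) :
    ∃ (E₁ : X.Modules) (i₁ : E₁ ⟶ E), Mono i₁ ∧ Inv E₁ i₁ ∧ 0 < rk E₁ ∧ FlatMod.IsFinLocFree E₁ ∧
      ∀ (G : X.Modules) (j : G ⟶ E), Mono j → Inv G j → FlatMod.IsFinLocFree G → 0 < rk G →
        dg k G * (rk E₁ : ℤ) ≤ dg k E₁ * (rk G : ℤ) ∧
        (dg k G * (rk E₁ : ℤ) = dg k E₁ * (rk G : ℤ) → rk G ≤ rk E₁) := by
  classical
  haveI := isLocallyNoetherian' k (X := X)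
  have hEf := isFinLocFree_of_rank hE
  have hEc := coh_of_free k hEf
  let J : Finset ℕ := (Finset.Icc 1 r).filter fun a =>
    ∃ (F : X.Modules) (i : F ⟶ E), Mono i ∧ Inv F i ∧ FlatMod.IsFinLocFree F ∧ rk F = a
  have hJ : J.Nonempty := ⟨r, Finset.mem_filter.2 ⟨Finset.mem_Icc.2 ⟨hr, le_rfl⟩,
    E, 𝟙 E, inferInstance, hInv, hEf, rk_eq hE⟩⟩
  have hbdd : ∀ a, a ∈ J → ∃ d : ℤ, (∃ (F : X.Modules) (i : F ⟶ E), Mono i ∧ Inv F i ∧
      FlatMod.IsFinLocFree F ∧ rk F = a ∧ dg k F = d) ∧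
      ∀ (F : X.Modules) (i : F ⟶ E), Mono i → Inv F i → FlatMod.IsFinLocFree F → rk F = a → dg k F ≤ d := by
    intro a ha
    obtain ⟨F₀, i₀, hi₀, hI₀, hF₀, hr₀⟩ := (Finset.mem_filter.1 ha).2
    obtain ⟨d, hd, hd'⟩ := Int.exists_greatest_of_bdd
      (P := fun d => ∃ (F : X.Modules) (i : F ⟶ E), Mono i ∧ Inv F i ∧ FlatMod.IsFinLocFree F ∧ rk F = a ∧
        dg k F = d)
      ⟨(Module.finrank k (Coh.HH X E 0) : ℤ) - (a : ℤ) * Curv2.euler k X (Coh.structureModule X),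
        fun d ⟨F, i, hi, _, hF, hr', hd⟩ => by
          haveI := hi
          rw [← hd, ← hr']
          exact dg_le_h0 k hdim i (coh_of_free k hF) hEc⟩
      ⟨_, F₀, i₀, hi₀, hI₀, hF₀, hr₀, rfl⟩
    exact ⟨d, hd, fun F i hi hI hF hr' => hd' _ ⟨F, i, hi, hI, hF, hr', rfl⟩⟩
  choose! d hd hd' using hbdd
  obtain ⟨a₁, ha₁, hbest⟩ := J.exists_max_image (fun a => toLex ((d a : ℚ) / (a : ℚ), a)) hJ
  obtain ⟨E₁, i₁, hi₁, hI₁, hE₁, hrk₁, hdg₁⟩ := hd a₁ ha₁
  have hpos : 0 < a₁ := (Finset.mem_Icc.1 (Finset.mem_filter.1 ha₁).1).1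
  refine ⟨E₁, i₁, hi₁, hI₁, hrk₁ ▸ hpos, hE₁, fun G j hj hI hG hG0 => ?_⟩
  haveI := hj
  have haJ : rk G ∈ J := Finset.mem_filter.2 ⟨Finset.mem_Icc.2 ⟨hG0,
    (rk_le_of_mono k j hEc).trans (rk_eq hE).le⟩, G, j, hj, hI, hG, rfl⟩
  have hle := mul_le_mul_of_nonneg_right (hd' _ haJ G j hj hI hG rfl) (Int.natCast_nonneg a₁)
  rw [hrk₁, hdg₁]
  have haQ : (0 : ℚ) < rk G := by exact_mod_cast hG0
  have h1Q : (0 : ℚ) < a₁ := by exact_mod_cast hpos
  rcases Prod.Lex.toLex_le_toLex.1 (hbest _ haJ) with h | ⟨h, h'⟩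
  · rw [div_lt_div_iff₀ haQ h1Q] at h
    have h2 : d (rk G) * (a₁ : ℤ) < d a₁ * (rk G : ℤ) := by exact_mod_cast h
    exact ⟨by linarith, fun he => absurd he (by intro he; linarith)⟩
  · rw [div_eq_div_iff haQ.ne' h1Q.ne'] at h
    have h2 : d (rk G) * (a₁ : ℤ) = d a₁ * (rk G : ℤ) := by exact_mod_cast h
    exact ⟨by linarith, fun _ => h'⟩

/-- A sheaf killed by the slope estimate: an equality forcing rank zero forces vanishing. -/
theorem isZero_of_extremal (hdim : topologicalKrullDim X ≤ 1) {I : X.Modules} (hI : Coh.IsCoh I)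
    {a e : ℤ} {b : ℕ} (hb : 0 < b) (hge : e * (rk I : ℤ) ≤ dg k I * (b : ℤ))
    (hle : (a + dg k I) * (b : ℤ) ≤ e * ((b : ℤ) + (rk I : ℤ))) (ha : a = e)
    (heq : (a + dg k I) * (b : ℤ) = e * ((b : ℤ) + (rk I : ℤ)) → b + rk I ≤ b) : IsZero I := by
  subst ha
  have hkey : dg k I * (b : ℤ) = a * (rk I : ℤ) := by linarith
  have hI0 : rk I = 0 := by
    have := heq (by linarith)
    omega
  refine (dg_nonneg_of_rk_zero k hdim hI hI0).2 ?_
  rw [hI0] at hkey
  simp only [Nat.cast_zero, mul_zero, mul_eq_zero] at hkey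
  rcases hkey with h | h <;> omega

end Groth.Agent.CurvePairs
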